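import Groth.Agent.Krr.H502.KosZero
import Groth.Agent.Krr.H495.ExtExist
import Groth.Agent.Sga67.TensorOps

/-!
# The class of a zero scheme in K-theory

`exists_koszul_resolution`: unconditional Koszul resolution of the zero scheme of a regular section.
`pushCl_one`: `i_K(1) = λ_{-1}[E]`.
-/

set_option autoImplicit false

universe v w u

open CategoryTheory CategoryTheory.Limits AlgebraicGeometry Opposite TopologicalSpace
open Groth.Agent.Sga67.Sec Groth.Agent.Sga67.LocBasis Groth.Agent.Sga67.ExtSheaf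
open Groth.Agent.Krr.H502.KosSheaf Groth.Agent.Krr.H502.KosZero

namespace Groth.Agent.Krr.H502.KosMain

variable {X Y : Scheme.{u}}

theorem isFinLocFree_of_rank {d : ℕ} {E : X.Modules} (hE : FlatMod.IsFinLocFreeOfRank d E) :
    FlatMod.IsFinLocFree E := fun x => by
  obtain ⟨U, hx, h⟩ := hE x
  exact ⟨U, d, hx, h⟩

/-- The Koszul resolution of the structure sheaf of the zero scheme of a regular section, by exterior powers. -/
theorem exists_koszul_resolution {d : ℕ} {E : Y.Modules} (hE : FlatMod.IsFinLocFreeOfRank d E)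
    (t : E ⟶ Coh.structureModule Y) (i : X ⟶ Y) [IsClosedImmersion i]
    (ht : ∀ U : Y.affineOpens, i.ker.ideal U = Ideal.span {a : Γ(Y, U.1) | ∃ s : Γ(E, U.1), (t.app U.1) s = a})
    (hi : Mor2.IsRegularClosedImmersion i) (hci : FlatMod.IsFinLocFreeOfRank d (Omega.conormal i)) :
    ∃ (L : ChainComplex Y.Modules ℕ) (π : L ⟶ (ChainComplex.single₀ Y.Modules).obj
      ((Scheme.Modules.pushforward i).obj (Coh.structureModule X))),
      KRR.IsLFRes ((Scheme.Modules.pushforward i).obj (Coh.structureModule X)) d L π ∧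
        ∀ k, ExtPow.IsExtPow k E (L.X k) := by
  have hE' := isFinLocFree_of_rank hE
  refine exists_koszul hE hE' t i (fun U => ?_) hi hci (fun k => ?_)
  · exact ht U
  · obtain ⟨L, -, hL⟩ := Groth.Agent.Krr.H495.ExtExist.exists_isExtPow k E hE'
    exact ⟨L, hL⟩

/-- `i_K(1) = λ_{-1}[E]` for the zero scheme of a regular section. -/
theorem pushCl_one {d : ℕ} {E : Y.Modules} (hE : FlatMod.IsFinLocFreeOfRank d E)
    (t : E ⟶ Coh.structureModule Y) (i : X ⟶ Y) [IsClosedImmersion i]
    (ht : ∀ U : Y.affineOpens, i.ker.ideal U = Ideal.span {a : Γ(Y, U.1) | ∃ s : Γ(E, U.1), (t.app U.1) s = a})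
    (hi : Mor2.IsRegularClosedImmersion i) (hci : FlatMod.IsFinLocFreeOfRank d (Omega.conormal i))
    {KX : Type v} [CommRing KX] [LambdaRing.LambdaOps KX] {PX : LambdaRing.PosStructure KX}
    {φX : SGA6.Kvb X →+ KX} (hKX : KRR.IsModel X KX PX φX)
    {KY : Type w} [CommRing KY] [LambdaRing.LambdaOps KY] {PY : LambdaRing.PosStructure KY}
    {φY : SGA6.Kvb Y →+ KY} (hKY : KRR.IsModel Y KY PY φY)
    {h : KX →+ KY} (hh : KRR.IsPushCl i φX φY h) :
    h 1 = KRR.lamAlt PY (φY (KRR.cl Y E)) := by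
  obtain ⟨L, π, hL, hLx⟩ := exists_koszul_resolution hE t i ht hi hci
  rw [← hKX.map_one, hh (Coh.structureModule X) Groth.Agent.Sga67.TensorOps.isFinLocFree_structureModule d L π hL,
    KRR.lamAlt, hKY.aug_cl d E hE, Int.toNat_natCast]
  refine Finset.sum_congr rfl fun k _ => ?_
  rw [hKY.map_lam k E (L.X k) (isFinLocFree_of_rank hE) (hL.finLocFree k) (hLx k), zsmul_eq_mul]
  push_cast
  rfl

end Groth.Agent.Krr.H502.KosMain
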