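import Groth.Agent.Krr.H502.KosSheaf
import Groth.Agent.Sga67.KosConormal

/-!
# Local exactness of the Koszul complex of a zero scheme

Let `E` be finite locally free of rank `d` on `Y`, `t : E ⟶ O_Y`, `i : Z ⟶ Y` a closed immersion whose ideal is generated
by the image of `t`, `i` regular with conormal module of rank `d`.  Then `LocEx t` (`locEx_of_zeroScheme`).
-/

set_option autoImplicit false

universe u v

open CategoryTheory CategoryTheory.Limits AlgebraicGeometry Opposite TopologicalSpace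
open Groth.Agent.Sga67.Sec Groth.Agent.Sga67.LocBasis Groth.Agent.Sga67.ExtSheaf Groth.Agent.Sga67.KosStalk
  Groth.Agent.Sga67.KosImm Groth.Agent.Sga67.KosConormal
open Groth.Agent.Sga67.SymKoszulAlg Groth.Agent.Krr.H502.KosExt Groth.Agent.Krr.H502.KosSheaf

namespace Groth.Agent.Krr.H502.KosChart

section Alg

variable {A : Type u} [CommRing A] {M : Type v} [AddCommGroup M] [Module A M] {n : ℕ}

/-- Change of basis: if `θ (e j) = ∑ a j l * r l` with `a` invertible then `θ` takes the values `r` on some basis. -/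
theorem exists_basis (e : Module.Basis (Fin n) A M) (θ : M →ₗ[A] A) (r : Fin n → A)
    (a : Matrix (Fin n) (Fin n) A) (ha : IsUnit a.det) (h : ∀ j, θ (e j) = ∑ l, a j l * r l) :
    ∃ e' : Module.Basis (Fin n) A M, ∀ l, θ (e' l) = r l := by
  have ha' : IsUnit (a⁻¹).transpose.det := by
    rw [Matrix.det_transpose]
    exact Matrix.isUnit_nonsing_inv_det a ha
  refine ⟨e.map (Matrix.toLinearEquiv e (a⁻¹).transpose ha'), fun l => ?_⟩
  rw [Module.Basis.map_apply]
  have h1 : Matrix.toLinearEquiv e (a⁻¹).transpose ha' (e l) = ∑ j, (a⁻¹) l j • e j := by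
    change Matrix.toLin e e (a⁻¹).transpose (e l) = _
    rw [Matrix.toLin_self]
    rfl
  rw [h1, map_sum]
  simp only [map_smul, h, smul_eq_mul, Finset.mul_sum]
  rw [Finset.sum_comm]
  have h2 : ∀ k, ∑ j, (a⁻¹) l j * (a j k * r k) = (a⁻¹ * a) l k * r k := by
    intro k
    rw [Matrix.mul_apply, Finset.sum_mul]
    exact Finset.sum_congr rfl fun j _ => (mul_assoc _ _ _).symm
  simp only [h2, Matrix.nonsing_inv_mul a ha]
  rw [Finset.sum_eq_single l]
  · simp
  · intro k _ hk
    rw [Matrix.one_apply_ne hk.symm, zero_mul]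
  · simp

/-- The determinant of the change of generators is a unit in the local ring. -/
theorem isUnit_det_of_local {R : Type u} [CommRing R] [IsLocalRing R] {n : ℕ} (r f : Fin n → R)
    (a b : Matrix (Fin n) (Fin n) R) (hf : ∀ j, f j = ∑ l, a j l * r l) (hr : ∀ l, r l = ∑ j, b l j * f j)
    (hm : ∀ l, r l ∈ IsLocalRing.maximalIdeal R)
    (hreg : ∀ c : Fin n → R, ∑ l, c l * r l = 0 → ∀ l, c l ∈ Ideal.span (Set.range r)) : IsUnit a.det := by
  have hle : Ideal.span (Set.range r) ≤ IsLocalRing.maximalIdeal R := by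
    rw [Ideal.span_le]
    rintro _ ⟨l, rfl⟩
    exact hm l
  have h1 : ∀ l k, (b * a) l k - (1 : Matrix (Fin n) (Fin n) R) l k ∈ IsLocalRing.maximalIdeal R := by
    intro l k
    refine hle (hreg (fun k => (b * a) l k - (1 : Matrix (Fin n) (Fin n) R) l k) ?_ k)
    simp only [sub_mul, Finset.sum_sub_distrib]
    have h2 : ∑ k, (b * a) l k * r k = r l := by
      conv_rhs => rw [hr l]
      simp only [hf, Finset.mul_sum, Matrix.mul_apply, Finset.sum_mul]
      rw [Finset.sum_comm]
      exact Finset.sum_congr rfl fun j _ => Finset.sum_congr rfl fun k _ => mul_assoc _ _ _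
    have h3 : ∑ k, (1 : Matrix (Fin n) (Fin n) R) l k * r k = r l := by
      rw [Finset.sum_eq_single l]
      · simp
      · intro k _ hk
        rw [Matrix.one_apply_ne hk.symm, zero_mul]
      · simp
    rw [h2, h3, sub_self]
  have h4 : (IsLocalRing.residue R) ((b * a).det) = 1 := by
    rw [RingHom.map_det]
    have h5 : (IsLocalRing.residue R).mapMatrix (b * a) = 1 := by
      ext l k
      rw [RingHom.mapMatrix_apply, Matrix.map_apply]
      have h6 := (IsLocalRing.residue_eq_zero_iff _).mpr (h1 l k)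
      rw [map_sub, sub_eq_zero] at h6
      rw [h6]
      by_cases hlk : l = k
      · subst hlk; simp
      · rw [Matrix.one_apply_ne hlk, Matrix.one_apply_ne hlk, map_zero]
    rw [h5, Matrix.det_one]
  have h7 : IsUnit (b * a).det := by
    rw [← IsLocalRing.notMem_maximalIdeal, ← IsLocalRing.residue_eq_zero_iff, h4]
    exact one_ne_zero
  rw [Matrix.det_mul] at h7
  exact isUnit_of_mul_isUnit_right h7

end Alg

section Rank

variable {X Y : Scheme.{u}} {i : Y ⟶ X} [IsClosedImmersion i]

/-- The length of the regular sequence of a chart is the rank of the conormal module. -/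
theorem length_eq {d : ℕ} (hci : FlatMod.IsFinLocFreeOfRank d (Omega.conormal i)) (c : Chart i) {y : Y}
    (hy : i y ∈ c.U) : c.l.length = d := by
  obtain ⟨U', hyU', hn⟩ := hci y
  obtain ⟨b, hb⟩ := nonempty_restrict_iso_iff.mp hn
  have hyW : y ∈ U' ⊓ c.V := ⟨hyU', hy⟩
  have h1 := hb.basis (inf_le_left : U' ⊓ c.V ≤ U')
  have h2 := (isLocBasis_fN c).basis (inf_le_right : U' ⊓ c.V ≤ c.V)
  have : Nonempty (U' ⊓ c.V : Y.Opens) := ⟨⟨y, hyW⟩⟩
  have : Nontrivial Γ(Y, U' ⊓ c.V) := inferInstance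
  have e := h2.indexEquiv h1
  simpa using Fintype.card_congr e

end Rank

section Main

variable {X Y : Scheme.{u}} {i : Y ⟶ X} [IsClosedImmersion i] {d : ℕ} {E : X.Modules}

/-- Values of `t` on a module with basis. -/
theorem range_lin_le (t : E ⟶ Coh.structureModule X) {U : X.Opens} (e : Module.Basis (Fin d) Γ(X, U) (Sec E U)) :
    Ideal.span (Set.range (lin t U)) ≤ Ideal.span (Set.range (fun j => lin t U (e j))) := by
  rw [Ideal.span_le]
  rintro _ ⟨s, rfl⟩
  rw [← e.sum_repr s, map_sum]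
  refine Ideal.sum_mem _ fun j _ => ?_
  rw [map_smul, smul_eq_mul]
  exact Ideal.mul_mem_left _ _ (Ideal.subset_span ⟨j, rfl⟩)

theorem exists_coeff {A : Type u} [CommRing A] {n : ℕ} (g : Fin n → A) {x : A} (hx : x ∈ Ideal.span (Set.range g)) :
    ∃ c : Fin n → A, x = ∑ j, c j * g j := by
  obtain ⟨c, hc⟩ := (Submodule.mem_span_range_iff_exists_fun A).mp hx
  exact ⟨c, hc.symm⟩

theorem locEx_of_not_mem (t : E ⟶ Coh.structureModule X)
    (ht : ∀ U : X.affineOpens, i.ker.ideal U = Ideal.span (Set.range (lin t U.1))) {x : X} (hx : x ∉ Set.range i)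
    {U : X.Opens} (hxU : x ∈ U) : ∃ W : X.affineOpens, W.1 ≤ U ∧ x ∈ W.1 ∧ KosEx (lin t W.1) := by
  obtain ⟨_, ⟨W, rfl⟩, hxW, hWU⟩ := Opens.isBasis_iff_nbhd.mp (affineBasis X) hxU
  have h1 : x ∉ i.ker.support := by
    intro h
    apply hx
    have h2 : x ∈ (i.ker.support : Set X) := h
    rw [Scheme.Hom.support_ker, i.isClosedEmbedding.isClosed_range.closure_eq] at h2
    exact h2
  have h3 : x ∉ X.zeroLocus (U := W.1) (Set.range (lin t W.1)) := by
    rw [← Scheme.zeroLocus_span, ← Ideal.submodule_span_eq, Ideal.submodule_span_eq]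
    intro h
    apply h1
    rw [← Scheme.IdealSheafData.mem_supportSet_iff_mem_support,
      Scheme.IdealSheafData.mem_supportSet_iff_of_mem hxW, ht]
    exact h
  rw [Scheme.mem_zeroLocus_iff] at h3
  push Not at h3
  obtain ⟨_, ⟨s, rfl⟩, hs⟩ := h3
  have hle : X.basicOpen (lin t W.1 s) ≤ W.1 := X.basicOpen_le _
  refine ⟨⟨X.basicOpen (lin t W.1 s), W.2.basicOpen _⟩, hle.trans hWU, hs, ?_⟩
  refine kosEx_of_isUnit _ (res E hle s) ?_
  rw [lin_res]
  exact RingedSpace.isUnit_res_basicOpen _ _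

theorem locEx_of_mem (hE : FlatMod.IsFinLocFreeOfRank d E) (t : E ⟶ Coh.structureModule X)
    (ht : ∀ U : X.affineOpens, i.ker.ideal U = Ideal.span (Set.range (lin t U.1)))
    (hi : Mor2.IsRegularClosedImmersion i) (hci : FlatMod.IsFinLocFreeOfRank d (Omega.conormal i)) (y : Y)
    {U : X.Opens} (hxU : i y ∈ U) : ∃ W : X.affineOpens, W.1 ≤ U ∧ i y ∈ W.1 ∧ KosEx (lin t W.1) := by
  obtain ⟨U1, hyU1, hn⟩ := hE (i y)
  obtain ⟨b, hb⟩ := nonempty_restrict_iso_iff.mp hn
  obtain ⟨c, hyc, hcU⟩ := exists_chart hi y (U ⊓ U1) ⟨hxU, hyU1⟩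
  have hlen : c.l.length = d := length_eq hci c hyc
  subst hlen
  have hcU1 : c.U ≤ U1 := hcU.trans inf_le_right
  let e := hb.basis hcU1
  -- the two systems of generators
  have hI : i.ker.ideal ⟨c.U, c.hU⟩ = Ideal.span (Set.range c.f) := by
    rw [c.hker, Chart.ofList_eq_span]
    rfl
  have hI' : i.ker.ideal ⟨c.U, c.hU⟩ = Ideal.span (Set.range (lin t c.U)) := ht ⟨c.U, c.hU⟩
  have h1 : ∀ j, ∃ a : Fin c.l.length → Γ(X, c.U), lin t c.U (e j) = ∑ l, a l * c.f l := by
    intro j
    apply exists_coeff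
    rw [← hI, hI']
    exact Ideal.subset_span ⟨_, rfl⟩
  have h2 : ∀ l, ∃ b : Fin c.l.length → Γ(X, c.U), c.f l = ∑ j, b j * lin t c.U (e j) := by
    intro l
    apply exists_coeff
    apply range_lin_le t e
    rw [← hI', hI]
    exact Ideal.subset_span ⟨_, rfl⟩
  choose a ha using h1
  choose a' ha' using h2
  -- the germs
  have hdet : IsUnit (Matrix.det (Matrix.of (fun j l => gO X hyc (a j l)))) := by
    refine isUnit_det_of_local (fun l => gO X hyc (c.f l)) (fun j => gO X hyc (lin t c.U (e j)))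
      (Matrix.of (fun j l => gO X hyc (a j l))) (Matrix.of (fun l j => gO X hyc (a' l j))) ?_ ?_ ?_ ?_
    · intro j
      rw [ha j, map_sum]
      exact Finset.sum_congr rfl fun l _ => map_mul _ _ _
    · intro l
      conv_lhs => rw [ha' l, map_sum]
      exact Finset.sum_congr rfl fun j _ => map_mul _ _ _
    · intro l
      have h3 : gO X hyc (c.f l) ∈ RingHom.ker (i.stalkMap y).hom := by
        rw [c.ker_stalkMap hyc]
        exact Ideal.subset_span ⟨l, rfl⟩
      rw [IsLocalRing.mem_maximalIdeal, mem_nonunits_iff]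
      intro h4
      have h5 := h4.map (i.stalkMap y).hom
      rw [RingHom.mem_ker] at h3
      rw [h3] at h5
      exact not_isUnit_zero h5
    · intro z hz l
      exact c.coeff_mem hyc z hz l
  have hdet' : gO X hyc (Matrix.det (Matrix.of a)) = Matrix.det (Matrix.of (fun j l => gO X hyc (a j l))) := by
    rw [RingHom.map_det]
    rfl
  rw [← hdet'] at hdet
  have hyD : i y ∈ X.basicOpen (Matrix.det (Matrix.of a)) := (X.mem_basicOpen _ _ hyc).mpr hdet
  have hle : X.basicOpen (Matrix.det (Matrix.of a)) ≤ c.U := X.basicOpen_le _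
  have hD : IsAffineOpen (X.basicOpen (Matrix.det (Matrix.of a))) := c.hU.basicOpen _
  refine ⟨⟨X.basicOpen (Matrix.det (Matrix.of a)), hD⟩, (hle.trans hcU).trans inf_le_left, hyD, ?_⟩
  let e₁ := hb.basis (hle.trans hcU1)
  have he₁ : ∀ j, e₁ j = res E hle (e j) := by
    intro j
    rw [IsLocBasis.basis_apply, IsLocBasis.basis_apply, res_res]
  obtain ⟨e', he'⟩ := exists_basis e₁ (lin t (X.basicOpen (Matrix.det (Matrix.of a))))
    (fun l => resO X hle (c.f l)) (Matrix.of (fun j l => resO X hle (a j l))) (by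
      have h3 : resO X hle (Matrix.det (Matrix.of a)) = Matrix.det (Matrix.of (fun j l => resO X hle (a j l))) := by
        rw [RingHom.map_det]
        rfl
      rw [← h3]
      exact RingedSpace.isUnit_res_basicOpen _ _) (by
      intro j
      rw [he₁, lin_res, ha j, map_sum]
      exact Finset.sum_congr rfl fun l _ => map_mul _ _ _)
  refine kosEx_of_isWeaklyRegular e' _ ?_
  have h4 : List.ofFn (fun l => lin t (X.basicOpen (Matrix.det (Matrix.of a))) (e' l)) = c.l.map (resO X hle) := by
    simp only [he']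
    have h5 : List.ofFn (fun l => resO X hle (c.f l)) = List.map (resO X hle) (List.ofFn c.l.get) := by
      rw [List.map_ofFn]
      rfl
    rw [h5, List.ofFn_get]
  rw [h4]
  let _ : Algebra Γ(X, c.U) Γ(X, X.basicOpen (Matrix.det (Matrix.of a))) := (resO X hle).toAlgebra
  have hloc : IsLocalization.Away (Matrix.det (Matrix.of a)) Γ(X, X.basicOpen (Matrix.det (Matrix.of a))) :=
    c.hU.isLocalization_basicOpen _
  exact c.hl.of_isLocalization (T := Submonoid.powers (Matrix.det (Matrix.of a)))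
    (S := Γ(X, X.basicOpen (Matrix.det (Matrix.of a))))

/-- Local exactness of the Koszul complex of a zero scheme. -/
theorem locEx_of_zeroScheme (hE : FlatMod.IsFinLocFreeOfRank d E) (t : E ⟶ Coh.structureModule X)
    (ht : ∀ U : X.affineOpens, i.ker.ideal U = Ideal.span (Set.range (lin t U.1)))
    (hi : Mor2.IsRegularClosedImmersion i) (hci : FlatMod.IsFinLocFreeOfRank d (Omega.conormal i)) : LocEx t := by
  intro x U hx
  by_cases h : x ∈ Set.range i
  · obtain ⟨y, rfl⟩ := h
    exact locEx_of_mem hE t ht hi hci y hx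
  · exact locEx_of_not_mem t ht h hx

end Main

end Groth.Agent.Krr.H502.KosChart
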