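import Groth.Agent.Sga67.SymKoszulAlg
import Groth.Agent.Sga67.KosAlt

/-!
# Exactness of the Koszul complex on exterior powers of a free module

For a linear form `θ : M → A` the Koszul differential is `SymKoszulAlg.ctr θ a : ⋀^(a+1) M → ⋀^a M`.
* `ctr_ctr`: it squares to zero;
* `KosEx θ`: exactness in positive degrees;
* `kosEx_of_apply_eq_one`: it holds if `θ` takes the value `1`;
* `kosEx_of_isWeaklyRegular`: it holds if `θ` takes the values of a weakly regular sequence on a basis.
-/

set_option autoImplicit false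

universe u v

namespace Groth.Agent.Krr.H502.KosExt

open Groth.Agent.Sga67.SymKoszulAlg Groth.Agent.Sga67.KosAlt
open exteriorPower (ιMulti)

variable {A : Type u} [CommRing A] {M : Type v} [AddCommGroup M] [Module A M]

theorem ctr_ctr (θ : M →ₗ[A] A) (a : ℕ) (x : ⋀[A]^(a + 2) M) : ctr θ a (ctr θ (a + 1) x) = 0 := by
  induction a with
  | zero =>
    have h : (ctr θ 0) ∘ₗ (ctr θ (0 + 1)) = 0 := by
      refine hom_ext' fun v => ?_
      rw [LinearMap.comp_apply, ιMulti_eq_crt, ctr_crt, map_sub, map_smul, ctr_crt_zero, sub_self,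
        LinearMap.zero_apply]
    exact LinearMap.congr_fun h x
  | succ a ih =>
    have h : (ctr θ (a + 1)) ∘ₗ (ctr θ (a + 1 + 1)) = 0 := by
      refine hom_ext' fun v => ?_
      rw [LinearMap.comp_apply, ιMulti_eq_crt, ctr_crt, map_sub, map_smul, ctr_crt, ih, map_zero, sub_zero,
        sub_self, LinearMap.zero_apply]
    exact LinearMap.congr_fun h x

/-- Exactness in positive degrees of the Koszul complex of `θ`. -/
def KosEx (θ : M →ₗ[A] A) : Prop :=
  ∀ (a : ℕ) (z : ⋀[A]^(a + 1) M), ctr θ a z = 0 → ∃ w : ⋀[A]^(a + 2) M, ctr θ (a + 1) w = z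

theorem kosEx_of_apply_eq_one (θ : M →ₗ[A] A) (m : M) (hm : θ m = 1) : KosEx θ := by
  intro a z hz
  refine ⟨crt m (a + 1) z, ?_⟩
  rw [ctr_crt, hm, one_smul, hz, map_zero, sub_zero]

theorem kosEx_of_isUnit (θ : M →ₗ[A] A) (m : M) (hm : IsUnit (θ m)) : KosEx θ := by
  obtain ⟨b, hb⟩ := hm.exists_left_inv
  exact kosEx_of_apply_eq_one θ (b • m) (by rw [map_smul, smul_eq_mul, hb])

section Transport

variable {n : ℕ} (e : Module.Basis (Fin n) A M)

/-- The linear form with given coefficients. -/
noncomputable def frm : (Fin n → A) →ₗ[A] Module.Dual A M :=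
  Fintype.linearCombination A (fun j => e.coord j)

theorem frm_apply (w : Fin n → A) (m : M) : frm e w m = ∑ j, w j * e.coord j m := by
  rw [frm, Fintype.linearCombination_apply, LinearMap.sum_apply]
  rfl

theorem frm_values (θ : M →ₗ[A] A) : frm e (fun j => θ (e j)) = θ := by
  refine e.ext fun i => ?_
  rw [frm_apply, Finset.sum_eq_single i]
  · simp
  · intro j _ hj
    simp [hj.symm]
  · simp

theorem frm_basisFun (j : Fin n) : frm e (Pi.basisFun A (Fin n) j) = e.coord j := by
  ext m
  rw [frm_apply, Finset.sum_eq_single j]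
  · simp
  · intro i _ hi
    simp [hi]
  · simp

/-- Elements of the exterior power as alternating maps. -/
noncomputable def Psi (k : ℕ) (x : ⋀[A]^k M) : Alt A n k A :=
  ((LinearMap.flip (exteriorPower.pairingDual A M k)) x).compAlternatingMap
    ((ιMulti A k (M := Module.Dual A M)).compLinearMap (frm e))

theorem Psi_apply (k : ℕ) (x : ⋀[A]^k M) (w : Fin k → Fin n → A) :
    Psi e k x w = exteriorPower.pairingDual A M k (ιMulti A k (fun i => frm e (w i))) x := rfl

theorem coeff_Psi (k : ℕ) (x : ⋀[A]^k M) (J : Set.powersetCard (Fin n) k) :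
    coeff (Psi e k x) J = (e.exteriorPower k).repr x J := by
  rw [exteriorPower.basis_repr_apply, exteriorPower.ιMultiDual, exteriorPower.ιMulti_family]
  rw [coeff, Psi_apply]
  congr 3
  funext i
  exact frm_basisFun e _

theorem Psi_injective (k : ℕ) : Function.Injective (Psi e k) := by
  intro x y h
  apply (e.exteriorPower k).ext_elem
  intro J
  rw [← coeff_Psi, ← coeff_Psi, h]

theorem Psi_surjective (k : ℕ) : Function.Surjective (Psi e k) := by
  intro z
  refine ⟨(e.exteriorPower k).equivFun.symm (fun J => coeff z J), ext_coeff fun J => ?_⟩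
  rw [coeff_Psi, ← Module.Basis.equivFun_apply, LinearEquiv.apply_symm_apply]

theorem Psi_ctr (θ : M →ₗ[A] A) (k : ℕ) (x : ⋀[A]^(k + 1) M) :
    Psi e k (ctr θ k x) = (Psi e (k + 1) x).curryLeft (fun j => θ (e j)) := by
  ext w
  rw [AlternatingMap.curryLeft_apply_apply, Psi_apply, Psi_apply]
  have h : (exteriorPower.pairingDual A M k (ιMulti A k (fun i => frm e (w i)))) ∘ₗ (ctr θ k) =
      exteriorPower.pairingDual A M (k + 1) (ιMulti A (k + 1)
        (fun i => frm e ((Matrix.vecCons (fun j => θ (e j)) w : Fin (k + 1) → Fin n → A) i))) := by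
    refine hom_ext' fun v => ?_
    rw [LinearMap.comp_apply, ctr_ιMulti, map_sum, exteriorPower.pairingDual_ιMulti_ιMulti,
      Matrix.det_succ_column_zero]
    refine Finset.sum_congr rfl fun i _ => ?_
    rw [map_smul, map_smul, exteriorPower.pairingDual_ιMulti_ιMulti, smul_eq_mul, smul_eq_mul, ← mul_assoc]
    congr 1
    congr 1
    rw [Matrix.of_apply, Matrix.cons_val_zero, frm_values]
  exact LinearMap.congr_fun h x

/-- Exactness of the Koszul complex if the values on a basis form a weakly regular sequence. -/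
theorem kosEx_of_isWeaklyRegular (θ : M →ₗ[A] A)
    (h : RingTheory.Sequence.IsWeaklyRegular A (List.ofFn (fun j => θ (e j)))) : KosEx θ := by
  intro a z hz
  have key : ∀ (g : Fin n → A), RingTheory.Sequence.IsWeaklyRegular A (List.ofFn g) →
      ∀ (k : ℕ) (z : Alt A n (k + 1) A), z.curryLeft g = 0 → ∃ w : Alt A n (k + 2) A, w.curryLeft g = z := by
    intro g hg k z hz
    have key : ∀ (rs : List A) (hn : n = rs.length) (_ : ∀ j, g j = rs.get (Fin.cast hn j)),
        RingTheory.Sequence.IsWeaklyRegular A rs → ∃ w : Alt A n (k + 2) A, w.curryLeft g = z := by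
      intro rs hn
      subst hn
      intro hg hrs
      have hg' : g = rs.get := funext hg
      subst hg'
      exact exists_curryLeft_eq rs A hrs k z hz
    exact key (List.ofFn g) (List.length_ofFn).symm (fun j => by simp) hg
  obtain ⟨w, hw⟩ := key _ h a (Psi e (a + 1) z) (by
    rw [← Psi_ctr, hz]
    ext w
    rw [Psi_apply, map_zero]
    rfl)
  obtain ⟨x, rfl⟩ := Psi_surjective e (a + 2) w
  refine ⟨x, Psi_injective e (a + 1) ?_⟩
  rw [Psi_ctr]
  exact hw

end Transport

end Groth.Agent.Krr.H502.KosExt
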