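import Groth.Agent.Krr.H502.KosExt
import Groth.Agent.Sga67.ExtSheaf

/-!
# The Koszul differentials on exterior powers of an O_X-module

For `t : E ⟶ O_X` and exterior powers `φ : Phi (a + 1) E L'`, `ψ : Phi a E L` there is the contraction
`d : L' ⟶ L` (`exists_ctr`); `LocEx t` says that the algebraic Koszul complex of `t` is exact in positive degrees over
arbitrarily small affine opens; then the sheafy complex is exact (`exact_of_locEx`).
-/

set_option autoImplicit false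

universe u

open CategoryTheory CategoryTheory.Limits AlgebraicGeometry Opposite TopologicalSpace
open Groth.Agent.Sga67.Sec Groth.Agent.Sga67.LocBasis Groth.Agent.Sga67.ExtSheaf
open Groth.Agent.Sga67.SymKoszulAlg Groth.Agent.Krr.H502.KosExt

namespace Groth.Agent.Krr.H502.KosSheaf

variable {X : Scheme.{u}}

/-- The linear form on sections given by a morphism to the structure sheaf. -/
noncomputable def lin {E : X.Modules} (t : E ⟶ Coh.structureModule X) (U : X.Opens) :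
    Sec E U →ₗ[Γ(X, U)] Γ(X, U) where
  toFun s := toO (appS t U s)
  map_add' x y := by rw [map_add, toO_add]
  map_smul' a x := by rw [map_smul, toO_smul]; rfl

theorem lin_apply {E : X.Modules} (t : E ⟶ Coh.structureModule X) (U : X.Opens) (s : Sec E U) :
    lin t U s = toO (appS t U s) := rfl

theorem lin_res {E : X.Modules} (t : E ⟶ Coh.structureModule X) {U V : X.Opens} (h : V ≤ U) (s : Sec E U) :
    lin t V (res E h s) = resO X h (lin t U s) := by
  rw [lin_apply, appS_res, toO_res, lin_apply]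

/-- The specification of the contraction with `t`. -/
def IsCtr {a : ℕ} {E L' L : X.Modules} (t : E ⟶ Coh.structureModule X) (φ : Phi (a + 1) E L') (ψ : Phi a E L)
    (d : L' ⟶ L) : Prop :=
  ∀ (U : X.affineOpens) (s : Sec L' U.1), ψ U (appS d U.1 s) = ctr (lin t U.1) a (φ U s)

theorem symm_ctr_ιMulti {a : ℕ} {E L : X.Modules} (t : E ⟶ Coh.structureModule X) (ψ : Phi a E L)
    (U : X.affineOpens) (v : Fin (a + 1) → Sec E U.1) :
    (ψ U).symm (ctr (lin t U.1) a (exteriorPower.ιMulti _ (a + 1) v)) =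
      ∑ i : Fin (a + 1), ((-1 : Γ(X, U.1)) ^ (i : ℕ) * lin t U.1 (v i)) •
        (ψ U).symm (exteriorPower.ιMulti _ a (i.removeNth v)) := by
  rw [ctr_ιMulti, map_sum]
  refine Finset.sum_congr rfl fun i _ => ?_
  rw [smul_smul]
  exact (ψ U).symm.map_smul _ _

/-- Contraction with `t`. -/
theorem exists_ctr {a : ℕ} {E L' L : X.Modules} (t : E ⟶ Coh.structureModule X) (φ : Phi (a + 1) E L')
    (hφ : PhiComp φ) (ψ : Phi a E L) (hψ : PhiComp ψ) : ∃ d : L' ⟶ L, IsCtr t φ ψ d := by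
  obtain ⟨g, hg⟩ := exists_hom_of_basis' (affineBasis X) L' L
    (fun U => (ψ U).symm.toLinearMap ∘ₗ (ctr (lin t U.1) a) ∘ₗ (φ U).toLinearMap)
    (by
      intro U V h s
      refine phi_induction φ U (C := fun s => ((ψ V).symm.toLinearMap ∘ₗ
        (ctr (lin t V.1) a) ∘ₗ (φ V).toLinearMap) (res L' h s) =
        res L h (((ψ U).symm.toLinearMap ∘ₗ (ctr (lin t U.1) a) ∘ₗ
          (φ U).toLinearMap) s)) ?_ ?_ ?_ ?_ s
      · simp only [map_zero]
      · intro x y hx hy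
        rw [map_add, map_add, hx, hy, map_add, map_add]
      · intro r x hx
        rw [res_smul, map_smul, map_smul, hx, res_smul]
      · intro e
        rw [hφ U V h e]
        simp only [LinearMap.comp_apply, LinearEquiv.coe_coe, LinearEquiv.apply_symm_apply]
        rw [symm_ctr_ιMulti, symm_ctr_ιMulti, map_sum]
        refine Finset.sum_congr rfl fun i _ => ?_
        rw [res_smul, hψ U V h, map_mul, map_pow, map_neg, map_one, lin_res]
        rfl)
  refine ⟨g, fun U s => ?_⟩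
  rw [hg U s]
  simp

theorem ctr_comp {a : ℕ} {E L₂ L₁ L₀ : X.Modules} (t : E ⟶ Coh.structureModule X) (φ₂ : Phi (a + 2) E L₂)
    (φ₁ : Phi (a + 1) E L₁) (φ₀ : Phi a E L₀) {d₂ : L₂ ⟶ L₁} (hd₂ : IsCtr t φ₂ φ₁ d₂) {d₁ : L₁ ⟶ L₀}
    (hd₁ : IsCtr t φ₁ φ₀ d₁) : d₂ ≫ d₁ = 0 := by
  apply hom_ext_of_locally
  intro x U hx
  obtain ⟨_, ⟨W, rfl⟩, hxW, hWU⟩ := Opens.isBasis_iff_nbhd.mp (affineBasis X) hx
  refine ⟨W.1, hWU, hxW, fun s => ?_⟩
  apply (φ₀ W).injective
  rw [appS_comp, hd₁ W, hd₂ W, ctr_ctr, appS_zero, map_zero]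

/-- Local exactness of the algebraic Koszul complex. -/
def LocEx {E : X.Modules} (t : E ⟶ Coh.structureModule X) : Prop :=
  ∀ (x : X) (U : X.Opens), x ∈ U → ∃ W : X.affineOpens, W.1 ≤ U ∧ x ∈ W.1 ∧ KosEx (lin t W.1)

theorem exact_of_locEx {a : ℕ} {E L₂ L₁ L₀ : X.Modules} {t : E ⟶ Coh.structureModule X} (ht : LocEx t)
    (φ₂ : Phi (a + 2) E L₂)
    (φ₁ : Phi (a + 1) E L₁) (φ₀ : Phi a E L₀) {d₂ : L₂ ⟶ L₁} (hd₂ : IsCtr t φ₂ φ₁ d₂) {d₁ : L₁ ⟶ L₀}
    (hd₁ : IsCtr t φ₁ φ₀ d₁) (w : d₂ ≫ d₁ = 0) : (ShortComplex.mk d₂ d₁ w).Exact := by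
  apply exact_of_locally
  intro U s hs x hx
  obtain ⟨W, hWU, hxW, hW⟩ := ht x U hx
  have h1 : ctr (lin t W.1) a (φ₁ W (res L₁ hWU s)) = 0 := by
    rw [← hd₁ W, appS_res]
    have h2 : appS d₁ U s = 0 := hs
    rw [h2, map_zero, map_zero]
  obtain ⟨z, hz⟩ := hW a _ h1
  refine ⟨W.1, hWU, hxW, (φ₂ W).symm z, ?_⟩
  change appS d₂ W.1 ((φ₂ W).symm z) = res L₁ hWU s
  apply (φ₁ W).injective
  rw [hd₂ W, LinearEquiv.apply_symm_apply]
  exact hz

end Groth.Agent.Krr.H502.KosSheaf
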