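import Groth.Prelude.Def_KRR

/-!
# Resolutions from exact sequences

`isLFRes_of_exact`: an exact sequence `… → L 1 → L 0 → F → 0` of O_X-modules with `L k` finite locally free and zero for
`k > n` gives `KRR.IsLFRes F n (ChainComplex.of L d hd) π`.
-/

set_option autoImplicit false

universe u v w

open CategoryTheory CategoryTheory.Limits AlgebraicGeometry

namespace Groth.Agent.Krr.H502.MkRes

section General

variable {C : Type u} [Category.{v} C] [Abelian C] (L : ℕ → C) (d : ∀ k, L (k + 1) ⟶ L k)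
  (hd : ∀ k, d (k + 1) ≫ d k = 0) {F : C} (ε : L 0 ⟶ F) (hε : d 0 ≫ ε = 0)

theorem of_d' (k : ℕ) : (ChainComplex.of L d hd).d (k + 1) k = d k := ChainComplex.of_d L d k

/-- The augmentation. -/
noncomputable def aug : ChainComplex.of L d hd ⟶ (ChainComplex.single₀ C).obj F :=
  (ChainComplex.toSingle₀Equiv _ _).symm ⟨ε, by
    have h : (ChainComplex.of L d hd).d 1 0 = d 0 := of_d' L d hd 0
    rw [h]
    exact hε⟩

theorem aug_f_zero : (aug L d hd ε hε).f 0 = ε := by
  rw [aug, ChainComplex.toSingle₀Equiv_symm_apply_f_zero]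

include hε in
theorem quasiIso_aug [Epi ε] (hex0 : (ShortComplex.mk (d 0) ε hε).Exact)
    (hex : ∀ k, (ShortComplex.mk (d (k + 1)) (d k) (hd k)).Exact) : QuasiIso (aug L d hd ε hε) := by
  refine ⟨fun n => ?_⟩
  cases n with
  | zero =>
    rw [ChainComplex.quasiIsoAt₀_iff, ShortComplex.quasiIso_iff_of_zeros']
    · refine (ShortComplex.exact_and_epi_g_iff_of_iso ?_).2 ⟨hex0, by dsimp; infer_instance⟩
      refine ShortComplex.isoMk (Iso.refl _) (Iso.refl _) (Iso.refl _) ?_ ?_
      · exact (Category.id_comp _).trans ((of_d' L d hd 0).symm.trans (Category.comp_id _).symm)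
      · exact (Category.id_comp _).trans ((aug_f_zero L d hd ε hε).symm.trans (Category.comp_id _).symm)
    all_goals rfl
  | succ n =>
    rw [quasiIsoAt_iff_exactAt']
    · rw [HomologicalComplex.exactAt_iff' _ (n + 1 + 1) (n + 1) n (by simp) (by simp)]
      refine (ShortComplex.exact_iff_of_iso ?_).2 (hex n)
      refine ShortComplex.isoMk (Iso.refl _) (Iso.refl _) (Iso.refl _) ?_ ?_
      · exact (Category.id_comp _).trans ((of_d' L d hd (n + 1)).symm.trans (Category.comp_id _).symm)
      · exact (Category.id_comp _).trans ((of_d' L d hd n).symm.trans (Category.comp_id _).symm)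
    · apply ChainComplex.exactAt_succ_single_obj

end General

variable {X : Scheme.{u}} (L : ℕ → X.Modules) (d : ∀ k, L (k + 1) ⟶ L k)
  (hd : ∀ k, d (k + 1) ≫ d k = 0) {F : X.Modules} (ε : L 0 ⟶ F) (hε : d 0 ≫ ε = 0)

/-- A finite exact sequence of finite locally free modules is a resolution. -/
theorem isLFRes_of_exact [Epi ε] (hex0 : (ShortComplex.mk (d 0) ε hε).Exact)
    (hex : ∀ k, (ShortComplex.mk (d (k + 1)) (d k) (hd k)).Exact) (hL : ∀ k, FlatMod.IsFinLocFree (L k)) (n : ℕ)
    (hn : ∀ k, n < k → IsZero (L k)) : KRR.IsLFRes F n (ChainComplex.of L d hd) (aug L d hd ε hε) where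
  finLocFree i := hL i
  isZero i hi := hn i hi
  quasiIso := quasiIso_aug L d hd ε hε hex0 hex

end Groth.Agent.Krr.H502.MkRes
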