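import Groth.Agent.Krr.H502.KosChart
import Groth.Agent.Krr.H502.MkRes

/-!
# The Koszul resolution of the zero scheme of a regular section

`exists_koszul`: `E` finite locally free of rank `d`, `t : E ⟶ O_X`, `i : Y ⟶ X` the zero scheme of `t`, a regular closed
immersion with conormal module of rank `d`: the Koszul complex of exterior powers of `E` resolves `i_* O_Y`.
-/

set_option autoImplicit false

universe u v

open CategoryTheory CategoryTheory.Limits AlgebraicGeometry Opposite TopologicalSpace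
open Groth.Agent.Sga67.Sec Groth.Agent.Sga67.LocBasis Groth.Agent.Sga67.ExtSheaf
open Groth.Agent.Sga67.SymKoszulAlg Groth.Agent.Krr.H502.KosExt Groth.Agent.Krr.H502.KosSheaf
  Groth.Agent.Krr.H502.KosChart Groth.Agent.Krr.H502.MkRes

namespace Groth.Agent.Krr.H502.KosZero

section Alg

variable {A : Type u} [CommRing A] {M : Type v} [AddCommGroup M] [Module A M]

theorem zeroEquiv_ctr (θ : M →ₗ[A] A) (x : ⋀[A]^(0 + 1) M) :
    exteriorPower.zeroEquiv A M (ctr θ 0 x) = θ (exteriorPower.oneEquiv A M x) := by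
  have h : (exteriorPower.zeroEquiv A M).toLinearMap ∘ₗ (ctr θ 0) =
      θ ∘ₗ (exteriorPower.oneEquiv A M).toLinearMap := by
    refine hom_ext' fun v => ?_
    rw [LinearMap.comp_apply, LinearMap.comp_apply, ctr_ιMulti]
    simp only [Fin.sum_univ_succ, Fin.val_zero, pow_zero, one_smul,
      Finset.univ_eq_empty, Finset.sum_empty, add_zero]
    rw [map_smul]
    have h1 : (exteriorPower.zeroEquiv A M).toLinearMap (exteriorPower.ιMulti A 0 ((0 : Fin 1).removeNth v)) = 1 :=
      exteriorPower.zeroEquiv_ιMulti _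
    have h2 : (exteriorPower.oneEquiv A M).toLinearMap (exteriorPower.ιMulti A (0 + 1) v) = v 0 :=
      exteriorPower.oneEquiv_ιMulti v
    rw [h1, h2, smul_eq_mul, mul_one]
  exact LinearMap.congr_fun h x

end Alg

variable {X Y : Scheme.{u}}

/-- The structure sheaf as zeroth exterior power. -/
noncomputable def phi0 (E : X.Modules) : Phi 0 E (Coh.structureModule X) := fun U =>
  ({ toFun := toO
     invFun := fun a => a
     left_inv := fun _ => rfl
     right_inv := fun _ => rfl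
     map_add' := fun _ _ => rfl
     map_smul' := fun _ _ => rfl } : Sec (Coh.structureModule X) U.1 ≃ₗ[Γ(X, U.1)] Γ(X, U.1)) ≪≫ₗ
    (exteriorPower.zeroEquiv Γ(X, U.1) (Sec E U.1)).symm

theorem zeroEquiv_phi0 (E : X.Modules) (U : X.affineOpens) (s : Sec (Coh.structureModule X) U.1) :
    exteriorPower.zeroEquiv Γ(X, U.1) (Sec E U.1) (phi0 E U s) = toO s := by
  rw [phi0, LinearEquiv.trans_apply, LinearEquiv.apply_symm_apply]
  rfl

theorem phi0_symm (E : X.Modules) (U : X.affineOpens) (x : Fin 0 → Sec E U.1) :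
    (phi0 E U).symm (exteriorPower.ιMulti Γ(X, U.1) 0 x) = one X U.1 := by
  rw [phi0, LinearEquiv.trans_symm, LinearEquiv.trans_apply, LinearEquiv.symm_symm,
    exteriorPower.zeroEquiv_ιMulti]
  rfl

theorem phi0_comp (E : X.Modules) : PhiComp (phi0 E) := by
  intro U V h x
  rw [phi0_symm, phi0_symm]
  exact res_one X h

/-- The differential in degree `0`. -/
theorem toO_ctr {E L₁ : X.Modules} {t : E ⟶ Coh.structureModule X} {φ₁ : Phi (0 + 1) E L₁}
    {d : L₁ ⟶ Coh.structureModule X} (hd : IsCtr t φ₁ (phi0 E) d) (U : X.affineOpens) (s : Sec L₁ U.1) :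
    toO (appS d U.1 s) = lin t U.1 (exteriorPower.oneEquiv _ _ (φ₁ U s)) := by
  rw [← zeroEquiv_phi0 E, hd U, zeroEquiv_ctr]

section Push

variable (i : Y ⟶ X)

theorem appS_unitToPush_eq_zero_iff [IsClosedImmersion i] (U : X.affineOpens)
    (s : Sec (Coh.structureModule X) U.1) :
    appS (ClSub.unitToPush i) U.1 s = 0 ↔ toO s ∈ i.ker.ideal U := by
  rw [Scheme.Hom.ker_apply]
  rfl

theorem epi_unitToPush [IsClosedImmersion i] : Epi (ClSub.unitToPush i) := by
  apply epi_of_locally_surjective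
  intro U s x hx
  obtain ⟨_, ⟨W, rfl⟩, hxW, hWU⟩ := Opens.isBasis_iff_nbhd.mp (affineBasis X) hx
  obtain ⟨a, ha⟩ := i.app_surjective W.1 W.2 (res _ hWU s)
  exact ⟨W.1, hWU, hxW, a, ha⟩

end Push

section Zero

variable {i : Y ⟶ X} [IsClosedImmersion i] {E : X.Modules} {t : E ⟶ Coh.structureModule X}
  (ht : ∀ U : X.affineOpens, i.ker.ideal U = Ideal.span (Set.range (lin t U.1)))

include ht in
theorem mem_iff (U : X.affineOpens) (a : Γ(X, U.1)) : a ∈ i.ker.ideal U ↔ ∃ s, lin t U.1 s = a := by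
  rw [ht U]
  have h : Ideal.span (Set.range (lin t U.1)) = LinearMap.range (lin t U.1) := by
    apply le_antisymm
    · rw [Ideal.span_le]
      exact fun _ h => h
    · exact fun _ h => Ideal.subset_span h
  rw [h]
  rfl

include ht in
theorem comp_unitToPush {L₁ : X.Modules} {φ₁ : Phi (0 + 1) E L₁} {d : L₁ ⟶ Coh.structureModule X}
    (hd : IsCtr t φ₁ (phi0 E) d) : d ≫ ClSub.unitToPush i = 0 := by
  apply hom_ext_of_locally
  intro x U hx
  obtain ⟨_, ⟨W, rfl⟩, hxW, hWU⟩ := Opens.isBasis_iff_nbhd.mp (affineBasis X) hx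
  refine ⟨W.1, hWU, hxW, fun s => ?_⟩
  rw [appS_comp, appS_zero, appS_unitToPush_eq_zero_iff i W, toO_ctr hd, mem_iff ht]
  exact ⟨_, rfl⟩

include ht in
theorem exact_unitToPush {L₁ : X.Modules} {φ₁ : Phi (0 + 1) E L₁} {d : L₁ ⟶ Coh.structureModule X}
    (hd : IsCtr t φ₁ (phi0 E) d) (w : d ≫ ClSub.unitToPush i = 0) :
    (ShortComplex.mk d (ClSub.unitToPush i) w).Exact := by
  apply exact_of_locally
  intro U s hs x hx
  obtain ⟨_, ⟨W, rfl⟩, hxW, hWU⟩ := Opens.isBasis_iff_nbhd.mp (affineBasis X) hx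
  have h1 : appS (ClSub.unitToPush i) W.1 (res _ hWU s) = 0 := by
    rw [appS_res]
    have h2 : appS (ClSub.unitToPush i) U s = 0 := hs
    rw [h2, map_zero]
  obtain ⟨v, hv⟩ := (mem_iff ht W _).mp ((appS_unitToPush_eq_zero_iff i W _).mp h1)
  refine ⟨W.1, hWU, hxW, (φ₁ W).symm ((exteriorPower.oneEquiv _ _).symm v), ?_⟩
  change toO (appS d W.1 _) = toO _
  rw [toO_ctr hd, LinearEquiv.apply_symm_apply]
  exact (congrArg (lin t W.1) ((exteriorPower.oneEquiv _ _).apply_symm_apply v)).trans hv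

end Zero

/-- High exterior powers vanish. -/
theorem isZero_of_isExtPow {d k : ℕ} {E L : X.Modules} (hE : FlatMod.IsFinLocFreeOfRank d E)
    (hL : ExtPow.IsExtPow k E L) (hk : d < k) : IsZero L := by
  obtain ⟨φ, hφ⟩ := exists_phi hL
  rw [IsZero.iff_id_eq_zero]
  apply hom_ext_of_locally
  intro x U hx
  obtain ⟨V, hxV, hn⟩ := hE x
  obtain ⟨b, hb⟩ := nonempty_restrict_iso_iff.mp hn
  obtain ⟨_, ⟨W, rfl⟩, hxW, hW⟩ := Opens.isBasis_iff_nbhd.mp (affineBasis X) (show x ∈ U ⊓ V from ⟨hx, hxV⟩)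
  refine ⟨W.1, hW.trans inf_le_left, hxW, fun s => ?_⟩
  have h1 := isLocBasis_extPow φ hφ (U := W) (hb.restrict (hW.trans inf_le_right)) W.1 le_rfl
  obtain ⟨a, rfl⟩ := h1.2 s
  have : IsEmpty (Set.powersetCard (Fin d) k) := by
    refine ⟨fun J => ?_⟩
    have h2 : J.1.card = k := J.2
    have h3 := Finset.card_le_univ J.1
    rw [Fintype.card_fin] at h3
    omega
  rw [appS_id, appS_zero, comb_apply]
  exact Finset.sum_of_isEmpty _

/-- The Koszul resolution. -/
theorem exists_koszul {d : ℕ} {E : X.Modules} (hE : FlatMod.IsFinLocFreeOfRank d E) (hE' : FlatMod.IsFinLocFree E)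
    (t : E ⟶ Coh.structureModule X) (i : Y ⟶ X) [IsClosedImmersion i]
    (ht : ∀ U : X.affineOpens, i.ker.ideal U = Ideal.span (Set.range (lin t U.1)))
    (hi : Mor2.IsRegularClosedImmersion i) (hci : FlatMod.IsFinLocFreeOfRank d (Omega.conormal i))
    (hext : ∀ k, ∃ L : X.Modules, ExtPow.IsExtPow k E L) :
    ∃ (L : ChainComplex X.Modules ℕ) (π : L ⟶ (ChainComplex.single₀ X.Modules).obj
      ((Scheme.Modules.pushforward i).obj (Coh.structureModule Y))),
      KRR.IsLFRes ((Scheme.Modules.pushforward i).obj (Coh.structureModule Y)) d L π ∧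
        ∀ k, ExtPow.IsExtPow k E (L.X k) := by
  have hloc : LocEx t := locEx_of_zeroScheme hE t ht hi hci
  choose Lx hx using hext
  let L : ℕ → X.Modules := fun k => match k with
    | 0 => Coh.structureModule X
    | k + 1 => Lx (k + 1)
  let φ : ∀ k, Phi k E (L k) := fun k => match k with
    | 0 => phi0 E
    | k + 1 => (exists_phi (hx (k + 1))).choose
  have hφ : ∀ k, PhiComp (φ k) := fun k => match k with
    | 0 => phi0_comp E
    | k + 1 => (exists_phi (hx (k + 1))).choose_spec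
  have hL : ∀ k, ExtPow.IsExtPow k E (L k) := fun k => ⟨φ k, hφ k⟩
  choose δ hδ using fun k => exists_ctr t (φ (k + 1)) (hφ (k + 1)) (φ k) (hφ k)
  have hδδ : ∀ k, δ (k + 1) ≫ δ k = 0 := fun k => ctr_comp t _ _ _ (hδ (k + 1)) (hδ k)
  have hε : δ 0 ≫ ClSub.unitToPush i = 0 := comp_unitToPush ht (hδ 0)
  have := epi_unitToPush i
  refine ⟨_, _, isLFRes_of_exact L δ hδδ (ClSub.unitToPush i) hε (exact_unitToPush ht (hδ 0) hε)
    (fun k => exact_of_locEx hloc _ _ _ (hδ (k + 1)) (hδ k) _) (fun k => isFinLocFree_of_isExtPow hE' (hL k)) d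
    (fun k hk => isZero_of_isExtPow hE (hL k) hk), hL⟩

end Groth.Agent.Krr.H502.KosZero
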